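import Groth.Prelude.Def_ArtFun4
import Groth.Agent.ArtHull.Prorep
import Mathlib.RingTheory.Flat.TorsionFree
import Mathlib.RingTheory.AdjoinRoot
import Mathlib.RingTheory.Polynomial.Basic
import Mathlib.AlgebraicGeometry.AffineScheme

/-!
Deformations `x y = c` of the node `k[x, y] / (x y)`, and failure of pro-representability.
-/

set_option autoImplicit false

universe u

open CategoryTheory CategoryTheory.Limits AlgebraicGeometry ArtFun

namespace Groth.Agent.DefNode

section Ring

variable {A B : Type u} [CommRing A] [CommRing B]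

/-- The ideal `(x y - c)`. -/
noncomputable abbrev nodeI (A : Type u) [CommRing A] (c : A) : Ideal (MvPolynomial (Fin 2) A) :=
  Ideal.span {(MvPolynomial.X 0 * MvPolynomial.X 1 - MvPolynomial.C c : MvPolynomial (Fin 2) A)}

/-- `A[x, y] / (x y - c)`. -/
abbrev Node (A : Type u) [CommRing A] (c : A) : Type u := MvPolynomial (Fin 2) A ⧸ nodeI A c

/-- Functoriality of `Node`. -/
noncomputable def mapNode (f : A →+* B) (c : A) (J : Ideal (MvPolynomial (Fin 2) B))
    (hJ : (MvPolynomial.X 0 * MvPolynomial.X 1 - MvPolynomial.C (f c) : MvPolynomial (Fin 2) B) ∈ J) :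
    Node A c →+* MvPolynomial (Fin 2) B ⧸ J :=
  Ideal.Quotient.lift (nodeI A c) ((Ideal.Quotient.mk J).comp (MvPolynomial.map f)) fun p hp => by
    obtain ⟨q, rfl⟩ := Ideal.mem_span_singleton'.mp hp
    rw [RingHom.comp_apply, Ideal.Quotient.eq_zero_iff_mem, map_mul, map_sub, map_mul, MvPolynomial.map_X,
      MvPolynomial.map_X, MvPolynomial.map_C]
    exact J.mul_mem_left _ hJ

theorem mapNode_mk (f : A →+* B) (c : A) (J : Ideal (MvPolynomial (Fin 2) B))
    (hJ : (MvPolynomial.X 0 * MvPolynomial.X 1 - MvPolynomial.C (f c) : MvPolynomial (Fin 2) B) ∈ J)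
    (p : MvPolynomial (Fin 2) A) :
    mapNode f c J hJ (Ideal.Quotient.mk _ p) = Ideal.Quotient.mk J (MvPolynomial.map f p) := rfl

end Ring

variable {k : Type u} [Field k]

/-- The map `k[t] → k[x, y]`, `t ↦ x y`. -/
noncomputable def univMap (k : Type u) [Field k] : Polynomial k →+* MvPolynomial (Fin 2) k :=
  Polynomial.eval₂RingHom MvPolynomial.C (MvPolynomial.X 0 * MvPolynomial.X 1)

theorem univMap_flat : (univMap k).Flat := by
  have hinj : Function.Injective (univMap k) := by
    refine Function.LeftInverse.injective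
      (g := MvPolynomial.eval₂Hom Polynomial.C ![Polynomial.X, 1]) fun p => ?_
    induction p using Polynomial.induction_on' with
    | add p q hp hq => rw [map_add, map_add, hp, hq]
    | monomial n a => simp [univMap, Polynomial.C_mul_X_pow_eq_monomial]
  letI := (univMap k).toAlgebra
  have : Module.IsTorsionFree (Polynomial k) (MvPolynomial (Fin 2) k) := by
    refine ⟨fun r hr x y h => ?_⟩
    have h' : univMap k r * x = univMap k r * y := h
    exact mul_left_cancel₀ (fun h0 => hr.ne_zero (hinj (h0.trans (map_zero _).symm))) h'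
  exact (inferInstance : Module.Flat (Polynomial k) (MvPolynomial (Fin 2) k))

/-- The universal deformation. -/
noncomputable abbrev univPi (k : Type u) [Field k] :
    Spec (CommRingCat.of (MvPolynomial (Fin 2) k)) ⟶ Spec (CommRingCat.of (Polynomial k)) :=
  Spec.map (CommRingCat.ofHom (univMap k))

/-- The point `t = c`. -/
noncomputable abbrev pt {A : Type u} [CommRing A] [Algebra k A] (c : A) :
    Spec (CommRingCat.of A) ⟶ Spec (CommRingCat.of (Polynomial k)) :=
  Spec.map (CommRingCat.ofHom (Polynomial.eval₂RingHom (algebraMap k A) c))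

/-- `A[x, y] / (x y - c)` is the pullback of the universal deformation. -/
theorem isPullback_node {A : Type u} [CommRing A] [Algebra k A] (c : A)
    (J : Ideal (MvPolynomial (Fin 2) A)) (hJ : J = nodeI A c) :
    IsPullback
      (Spec.map (CommRingCat.ofHom ((Ideal.Quotient.mk J).comp (MvPolynomial.map (algebraMap k A)))))
      (Spec.map (CommRingCat.ofHom ((Ideal.Quotient.mk J).comp MvPolynomial.C)))
      (univPi k) (pt c) := by
  have hw : (Ideal.Quotient.mk J (MvPolynomial.X 0 * MvPolynomial.X 1)) =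
      Ideal.Quotient.mk J (MvPolynomial.C c) := by
    rw [Ideal.Quotient.eq, hJ]
    exact Ideal.mem_span_singleton_self _
  have w : CommRingCat.ofHom (univMap k) ≫
      CommRingCat.ofHom ((Ideal.Quotient.mk J).comp (MvPolynomial.map (algebraMap k A))) =
      CommRingCat.ofHom (Polynomial.eval₂RingHom (algebraMap k A) c) ≫
        CommRingCat.ofHom ((Ideal.Quotient.mk J).comp MvPolynomial.C) := by
    refine CommRingCat.hom_ext (Polynomial.ringHom_ext (fun a => ?_) ?_)
    · simp [univMap]
    · simpa [univMap] using hw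
  refine isPullback_SpecMap_of_isPushout _ _ _ _ (IsPushout.of_isColimit'
    ⟨w⟩ (PushoutCocone.IsColimit.mk w
      (fun s => CommRingCat.ofHom (Ideal.Quotient.lift J
        (MvPolynomial.eval₂Hom s.inr.hom fun i => s.inl.hom (MvPolynomial.X i)) fun p hp => ?_))
      (fun s => ?_) (fun s => ?_) fun s m hm₁ hm₂ => ?_))
  · have hc := congrArg (fun φ : CommRingCat.of (Polynomial k) ⟶ s.pt => φ.hom Polynomial.X) s.condition
    simp [univMap] at hc
    rw [hJ] at hp
    obtain ⟨q, rfl⟩ := Ideal.mem_span_singleton'.mp hp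
    simp [hc]
  · refine CommRingCat.hom_ext (MvPolynomial.ringHom_ext (fun a => ?_) fun i => ?_)
    · have hc := congrArg (fun φ : CommRingCat.of (Polynomial k) ⟶ s.pt => φ.hom (Polynomial.C a)) s.condition
      simp [univMap] at hc
      simpa using hc.symm
    · simp
  · refine CommRingCat.hom_ext (RingHom.ext fun a => ?_)
    simp
  · refine CommRingCat.hom_ext (Ideal.Quotient.ringHom_ext (MvPolynomial.ringHom_ext (fun a => ?_) fun i => ?_))
    · have := congrArg (fun φ : CommRingCat.of A ⟶ s.pt => φ.hom a) hm₂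
      simpa using this
    · have := congrArg (fun φ : CommRingCat.of (MvPolynomial (Fin 2) k) ⟶ s.pt => φ.hom (MvPolynomial.X i)) hm₁
      simpa using this

theorem flat_node {A : Type u} [CommRing A] [Algebra k A] (c : A) :
    Flat (Spec.map (CommRingCat.ofHom ((Ideal.Quotient.mk (nodeI A c)).comp MvPolynomial.C))) :=
  MorphismProperty.of_isPullback (P := @Flat) (isPullback_node (k := k) c _ rfl)
    (Flat.SpecMap_iff.2 univMap_flat)

/-- The central fibre. -/
noncomputable abbrev node₀I (k : Type u) [Field k] : Ideal (MvPolynomial (Fin 2) k) :=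
  Ideal.span {(MvPolynomial.X 0 * MvPolynomial.X 1 : MvPolynomial (Fin 2) k)}

theorem node₀I_eq : node₀I k = nodeI k 0 := by
  rw [node₀I, nodeI, map_zero, sub_zero]

/-- The node. -/
noncomputable abbrev X₀ (k : Type u) [Field k] : Scheme.{u} :=
  Spec (CommRingCat.of (MvPolynomial (Fin 2) k ⧸ node₀I k))

/-- Its structure map. -/
noncomputable abbrev x₀ (k : Type u) [Field k] : X₀ k ⟶ Art.specPt k :=
  Spec.map (CommRingCat.ofHom (algebraMap k (MvPolynomial (Fin 2) k ⧸ node₀I k)))

theorem mem_node₀ {A : Art k k} {c : A} (hc : A.res c = 0) :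
    (MvPolynomial.X 0 * MvPolynomial.X 1 - MvPolynomial.C ((A.res : A →+* k) c) : MvPolynomial (Fin 2) k) ∈
      node₀I k := by
  rw [show (A.res : A →+* k) c = 0 from hc, map_zero, sub_zero]
  exact Ideal.mem_span_singleton_self _

/-- Reduction `A[x, y]/(x y - c) → k[x, y]/(x y)`. -/
noncomputable abbrev red {A : Art k k} (c : A) (hc : A.res c = 0) :
    Node A c →+* MvPolynomial (Fin 2) k ⧸ node₀I k :=
  mapNode (A.res : A →+* k) c (node₀I k) (mem_node₀ hc)

/-- The deformation `x y = c`. -/
noncomputable def defo {A : Art k k} (c : A) (hc : A.res c = 0) : DefSch (X₀ k) (x₀ k) A where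
  total := Spec (CommRingCat.of (Node A c))
  f := Spec.map (CommRingCat.ofHom ((Ideal.Quotient.mk (nodeI A c)).comp MvPolynomial.C))
  flat := flat_node (k := k) c
  i := Spec.map (CommRingCat.ofHom (red c hc))
  isPullback := by
    refine IsPullback.of_right ?_ ?_ (isPullback_node (k := k) c _ rfl)
    · have h0 := isPullback_node (k := k) (A := k) 0 (node₀I k) node₀I_eq
      have h1 : Spec.map (CommRingCat.ofHom (red c hc)) ≫
          Spec.map (CommRingCat.ofHom ((Ideal.Quotient.mk (nodeI A c)).comp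
            (MvPolynomial.map (algebraMap k A)))) =
          Spec.map (CommRingCat.ofHom ((Ideal.Quotient.mk (node₀I k)).comp
            (MvPolynomial.map (algebraMap k k)))) := by
        rw [← Spec.map_comp, ← CommRingCat.ofHom_comp]
        congr 2
        refine MvPolynomial.ringHom_ext (fun a => ?_) fun i => ?_ <;> simp [mapNode_mk]
      have h2 : Art.specRes A ≫ pt (k := k) c = pt (k := k) (0 : k) := by
        change Spec.map _ ≫ Spec.map _ = Spec.map _
        rw [← Spec.map_comp, ← CommRingCat.ofHom_comp]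
        congr 2
        refine Polynomial.ringHom_ext (fun a => ?_) ?_ <;> simp [hc]
      rw [h1, h2]
      exact h0
    · change Spec.map _ ≫ Spec.map _ = Spec.map _ ≫ Spec.map _
      rw [← Spec.map_comp, ← Spec.map_comp, ← CommRingCat.ofHom_comp, ← CommRingCat.ofHom_comp]
      congr 2
      refine RingHom.ext fun a => ?_
      simp [mapNode_mk]
      rfl

/-- Its class. -/
noncomputable def cls {A : Art k k} (c : A) (hc : A.res c = 0) : (defFunctor (X₀ k) (x₀ k)).obj A :=
  (defo c hc).cl

theorem cls_congr {A : Art k k} {c c' : A} (h : c = c') (hc : A.res c = 0) (hc' : A.res c' = 0) :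
    cls c hc = cls c' hc' := by
  subst h; rfl

theorem map_cls {A B : Art k k} (g : A ⟶ B) (c : A) (hc : A.res c = 0) :
    (defFunctor (X₀ k) (x₀ k)).map g (cls c hc) = cls (g c) (by rw [Art.res_app]; exact hc) := by
  refine Quotient.sound ⟨?_⟩
  let gN : Node A c →+* Node B (g c) :=
    mapNode (g.toAlgHom : A →+* B) c (nodeI B (g c)) (Ideal.mem_span_singleton_self _)
  have h1 : Spec.map (CommRingCat.ofHom gN) ≫
      Spec.map (CommRingCat.ofHom ((Ideal.Quotient.mk (nodeI A c)).comp
        (MvPolynomial.map (algebraMap k A)))) =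
      Spec.map (CommRingCat.ofHom ((Ideal.Quotient.mk (nodeI B (g c))).comp
        (MvPolynomial.map (algebraMap k B)))) := by
    rw [← Spec.map_comp, ← CommRingCat.ofHom_comp]
    congr 2
    refine MvPolynomial.ringHom_ext (fun a => ?_) fun i => ?_ <;> simp [gN, mapNode_mk]
  have h2 : Art.specMap g ≫ pt (k := k) c = pt (k := k) (g c) := by
    change Spec.map _ ≫ Spec.map _ = Spec.map _
    rw [← Spec.map_comp, ← CommRingCat.ofHom_comp]
    congr 2
    refine Polynomial.ringHom_ext (fun a => ?_) ?_ <;> simp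
  have h3 : Spec.map (CommRingCat.ofHom gN) ≫
      Spec.map (CommRingCat.ofHom ((Ideal.Quotient.mk (nodeI A c)).comp MvPolynomial.C)) =
      Spec.map (CommRingCat.ofHom ((Ideal.Quotient.mk (nodeI B (g c))).comp MvPolynomial.C)) ≫
        Art.specMap g := by
    change Spec.map _ ≫ Spec.map _ = Spec.map _ ≫ Spec.map _
    rw [← Spec.map_comp, ← Spec.map_comp, ← CommRingCat.ofHom_comp, ← CommRingCat.ofHom_comp]
    congr 2
    refine RingHom.ext fun a => ?_
    simp [gN, mapNode_mk]
  have hsq : IsPullback (Spec.map (CommRingCat.ofHom gN))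
      (Spec.map (CommRingCat.ofHom ((Ideal.Quotient.mk (nodeI B (g c))).comp MvPolynomial.C)))
      (defo c hc).f (Art.specMap g) := by
    refine IsPullback.of_right ?_ h3 (isPullback_node (k := k) c _ rfl)
    rw [h1, h2]
    exact isPullback_node (k := k) (g c) _ rfl
  have hred : CommRingCat.ofHom gN ≫ CommRingCat.ofHom (red (g c) (by rw [Art.res_app]; exact hc)) =
      CommRingCat.ofHom (red c hc) := by
    rw [← CommRingCat.ofHom_comp]
    congr 1
    refine Ideal.Quotient.ringHom_ext (MvPolynomial.ringHom_ext (fun a => ?_) fun i => ?_)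
    · simp [gN, mapNode_mk, Art.res_app]
    · simp [gN, mapNode_mk]
  exact
    { iso := (IsPullback.of_hasPullback (defo c hc).f (Art.specMap g)).isoIsPullback _ _ hsq
      hom_f := IsPullback.isoIsPullback_hom_snd _ _ _ _
      i_hom := by
        apply hsq.hom_ext
        · refine (Category.assoc _ _ _).trans ((congrArg (_ ≫ ·)
            (IsPullback.isoIsPullback_hom_fst _ _ _ hsq)).trans ?_)
          exact ((defo c hc).baseChange_i_fst g).trans
            ((Spec.map_comp _ _).symm.trans (congrArg Spec.map hred)).symm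
        · refine (Category.assoc _ _ _).trans ((congrArg (_ ≫ ·)
            (IsPullback.isoIsPullback_hom_snd _ _ _ hsq)).trans ?_)
          exact ((defo c hc).baseChange_i_f g).trans (DefSch.i_f (defo (g c) _)).symm }

/-- Rescaling. -/
theorem cls_mul {A : Art k k} (c w : A) (hw : A.res w = 1) (hc : A.res c = 0) :
    cls (w * c) (by rw [map_mul, hc, mul_zero]) = cls c hc := by
  obtain ⟨v, hv⟩ : IsUnit w := by
    by_contra hu
    have := (Art.mem_maximalIdeal_iff A w).1 ((IsLocalRing.mem_maximalIdeal w).2 hu)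
    exact one_ne_zero (hw.symm.trans this)
  subst hv
  have hv' : A.res (↑v⁻¹ : A) = 1 := by
    have h := congrArg A.res v.inv_mul
    rwa [map_mul, hw, mul_one, map_one] at h
  refine Quotient.sound ⟨?_⟩
  let scale : A → MvPolynomial (Fin 2) A →+* MvPolynomial (Fin 2) A := fun a =>
    MvPolynomial.eval₂Hom MvPolynomial.C ![MvPolynomial.C a * MvPolynomial.X 0, MvPolynomial.X 1]
  let fwd : Node A ((v : A) * c) →+* Node A c :=
    Ideal.Quotient.lift _ ((Ideal.Quotient.mk _).comp (scale v)) fun p hp => by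
      obtain ⟨q, rfl⟩ := Ideal.mem_span_singleton'.mp hp
      rw [RingHom.comp_apply, map_mul, map_mul]
      refine mul_eq_zero_of_right _ ?_
      rw [Ideal.Quotient.eq_zero_iff_mem]
      exact Ideal.mem_span_singleton'.mpr ⟨MvPolynomial.C (v : A), by simp [scale]; ring⟩
  let bwd : Node A c →+* Node A ((v : A) * c) :=
    Ideal.Quotient.lift _ ((Ideal.Quotient.mk _).comp (scale (↑v⁻¹ : A))) fun p hp => by
      obtain ⟨q, rfl⟩ := Ideal.mem_span_singleton'.mp hp
      rw [RingHom.comp_apply, map_mul, map_mul]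
      refine mul_eq_zero_of_right _ ?_
      rw [Ideal.Quotient.eq_zero_iff_mem]
      refine Ideal.mem_span_singleton'.mpr ⟨MvPolynomial.C (↑v⁻¹ : A), ?_⟩
      simp only [scale, map_sub, map_mul, MvPolynomial.eval₂Hom_X', MvPolynomial.eval₂Hom_C,
        Matrix.cons_val_zero, Matrix.cons_val_one]
      have : (MvPolynomial.C (↑v⁻¹ : A) : MvPolynomial (Fin 2) A) * MvPolynomial.C (v : A) = 1 := by
        rw [← map_mul, v.inv_mul, map_one]
      linear_combination (-MvPolynomial.C c) * this
  have hfb : bwd.comp fwd = RingHom.id _ := by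
    refine Ideal.Quotient.ringHom_ext (MvPolynomial.ringHom_ext (fun a => ?_) fun i => ?_)
    · simp [fwd, bwd, scale]
    · fin_cases i <;> simp [fwd, bwd, scale, ← mul_assoc, ← map_mul]
  have hbf : fwd.comp bwd = RingHom.id _ := by
    refine Ideal.Quotient.ringHom_ext (MvPolynomial.ringHom_ext (fun a => ?_) fun i => ?_)
    · simp [fwd, bwd, scale]
    · fin_cases i <;> simp [fwd, bwd, scale, ← mul_assoc, ← map_mul]
  have hfC : fwd.comp ((Ideal.Quotient.mk _).comp MvPolynomial.C) =
      (Ideal.Quotient.mk _).comp MvPolynomial.C := RingHom.ext fun a => by simp [fwd, scale]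
  have hbC : bwd.comp ((Ideal.Quotient.mk _).comp MvPolynomial.C) =
      (Ideal.Quotient.mk _).comp MvPolynomial.C := RingHom.ext fun a => by simp [bwd, scale]
  have hred : (red ((v : A) * c) (by rw [map_mul, hc, mul_zero])).comp bwd = red c hc := by
    refine Ideal.Quotient.ringHom_ext (MvPolynomial.ringHom_ext (fun a => ?_) fun i => ?_)
    · simp [bwd, scale, mapNode_mk]
    · fin_cases i <;> simp [bwd, scale, mapNode_mk, hw]
  exact
    { iso :=
        { hom := Spec.map (CommRingCat.ofHom bwd)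
          inv := Spec.map (CommRingCat.ofHom fwd)
          hom_inv_id := by
            change Spec.map _ ≫ Spec.map _ = _
            rw [← Spec.map_comp, ← CommRingCat.ofHom_comp, hfb, CommRingCat.ofHom_id]
            exact Spec.map_id _
          inv_hom_id := by
            change Spec.map _ ≫ Spec.map _ = _
            rw [← Spec.map_comp, ← CommRingCat.ofHom_comp, hbf, CommRingCat.ofHom_id]
            exact Spec.map_id _ }
      hom_f := by
        change Spec.map _ ≫ Spec.map _ = Spec.map _
        rw [← Spec.map_comp, ← CommRingCat.ofHom_comp, hbC]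
      i_hom := by
        change Spec.map _ ≫ Spec.map _ = Spec.map _
        rw [← Spec.map_comp, ← CommRingCat.ofHom_comp, hred] }

theorem ker_red_le {A : Art k k} (c : A) (hc : A.res c = 0) (r : Node A c) (hr : red c hc r = 0) :
    r ∈ (IsLocalRing.maximalIdeal A).map ((Ideal.Quotient.mk (nodeI A c)).comp MvPolynomial.C) := by
  obtain ⟨p, rfl⟩ := Ideal.Quotient.mk_surjective r
  rw [mapNode_mk, Ideal.Quotient.eq_zero_iff_mem] at hr
  obtain ⟨q₀, hq₀⟩ := Ideal.mem_span_singleton'.mp hr
  obtain ⟨q, rfl⟩ := MvPolynomial.map_surjective (A.res : A →+* k) A.res_surjective q₀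
  have hmem : p - q * (MvPolynomial.X 0 * MvPolynomial.X 1 - MvPolynomial.C c) ∈
      (IsLocalRing.maximalIdeal A).map (MvPolynomial.C : A →+* MvPolynomial (Fin 2) A) := by
    rw [MvPolynomial.mem_map_C_iff]
    intro m
    rw [Art.mem_maximalIdeal_iff]
    change (A.res : A →+* k) (MvPolynomial.coeff m _) = 0
    rw [← MvPolynomial.coeff_map, map_sub, map_mul, map_sub, map_mul, MvPolynomial.map_X, MvPolynomial.map_X,
      MvPolynomial.map_C, show (A.res : A →+* k) c = 0 from hc, map_zero, sub_zero, hq₀, sub_self,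
      MvPolynomial.coeff_zero]
  have h2 := Ideal.mem_map_of_mem (Ideal.Quotient.mk (nodeI A c)) hmem
  rw [Ideal.map_map, map_sub, map_mul, show Ideal.Quotient.mk (nodeI A c)
    (MvPolynomial.X 0 * MvPolynomial.X 1 - MvPolynomial.C c) = 0 from
      Ideal.Quotient.eq_zero_iff_mem.2 (Ideal.mem_span_singleton_self _), mul_zero, sub_zero] at h2
  exact h2

/-- Over the dual numbers `x y = ε` is not trivial. -/
theorem cls_eps_ne :
    cls (A := Art.dual k k) (DualNumber.eps : DualNumber k) (TrivSqZeroExt.fst_inr k (1 : k)) ≠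
      cls (A := Art.dual k k) 0 (map_zero _) := by
  intro h
  obtain ⟨e⟩ := Quotient.exact h
  obtain ⟨φ, hφ⟩ := Spec.map_surjective e.iso.hom
  have hC : CommRingCat.ofHom ((Ideal.Quotient.mk (nodeI (Art.dual k k) (0 : DualNumber k))).comp MvPolynomial.C) ≫ φ =
      CommRingCat.ofHom ((Ideal.Quotient.mk (nodeI (Art.dual k k) (DualNumber.eps : DualNumber k))).comp MvPolynomial.C) := by
    apply Spec.map_injective
    refine (Spec.map_comp _ _).trans ((congrArg (· ≫ _) hφ).trans ?_)
    exact e.hom_f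
  have hr : φ ≫ CommRingCat.ofHom (red (A := Art.dual k k) (DualNumber.eps : DualNumber k) (TrivSqZeroExt.fst_inr k (1 : k))) =
      CommRingCat.ofHom (red (A := Art.dual k k) 0 (map_zero _)) := by
    apply Spec.map_injective
    refine (Spec.map_comp _ _).trans ((congrArg (_ ≫ ·) hφ).trans ?_)
    exact e.i_hom
  let T := AdjoinRoot (Polynomial.X ^ 3 : Polynomial k)
  let s : T := AdjoinRoot.root _
  have hs3 : s ^ 3 = 0 := by
    have := AdjoinRoot.eval₂_root (Polynomial.X ^ 3 : Polynomial k)
    simpa using this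
  let ev : DualNumber k →ₐ[k] T :=
    DualNumber.lift ⟨(Algebra.ofId k T, s * s), by
      calc s * s * (s * s) = s ^ 3 * s := by ring
        _ = 0 := by rw [hs3, zero_mul], fun a => Commute.all _ _⟩
  have hevε : ev DualNumber.eps = s * s := DualNumber.lift_apply_eps _
  let Ev₀ : MvPolynomial (Fin 2) (Art.dual k k) →+* T :=
    MvPolynomial.eval₂Hom (ev : DualNumber k →+* T) fun _ => s
  let Ev : Node (Art.dual k k) (DualNumber.eps : DualNumber k) →+* T :=
    Ideal.Quotient.lift _ Ev₀ fun p hp => by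
      obtain ⟨q, rfl⟩ := Ideal.mem_span_singleton'.mp hp
      rw [map_mul, map_sub, map_mul, MvPolynomial.eval₂Hom_X', MvPolynomial.eval₂Hom_X', MvPolynomial.eval₂Hom_C]
      refine mul_eq_zero_of_right _ ?_
      exact sub_eq_zero.2 hevε.symm
  let K : Ideal T := Ideal.span {s * s}
  have hK : ∀ r, red (A := Art.dual k k) (DualNumber.eps : DualNumber k) (TrivSqZeroExt.fst_inr k (1 : k)) r = 0 → Ev r ∈ K := by
    intro r hr
    have h1 := Ideal.mem_map_of_mem Ev (ker_red_le (A := Art.dual k k) _ _ r hr)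
    rw [Ideal.map_map] at h1
    refine (Ideal.map_le_iff_le_comap.mpr fun d hd => ?_) h1
    rw [Ideal.mem_comap]
    change Ev₀ (MvPolynomial.C d) ∈ K
    rw [MvPolynomial.eval₂Hom_C]
    have hd' : TrivSqZeroExt.fst (d : DualNumber k) = 0 := (Art.mem_maximalIdeal_iff _ d).1 hd
    change ev d ∈ K
    rw [DualNumber.lift_apply_apply, hd', map_zero, zero_add]
    exact Ideal.mul_mem_left _ _ (Ideal.mem_span_singleton_self _)
  have key : ∀ i, ∃ a, Ev (φ.hom (Ideal.Quotient.mk _ (MvPolynomial.X i))) = s + a * (s * s) := by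
    intro i
    have h1 : red (A := Art.dual k k) (DualNumber.eps : DualNumber k) (TrivSqZeroExt.fst_inr k (1 : k))
        (φ.hom (Ideal.Quotient.mk _ (MvPolynomial.X i)) - Ideal.Quotient.mk _ (MvPolynomial.X i)) = 0 := by
      rw [map_sub, sub_eq_zero]
      refine (RingHom.congr_fun (congrArg CommRingCat.Hom.hom hr) _).trans ?_
      simp [mapNode_mk]
    obtain ⟨a, ha⟩ := Ideal.mem_span_singleton'.mp (hK _ h1)
    refine ⟨a, ?_⟩
    rw [map_sub] at ha
    rw [ha, show Ev (Ideal.Quotient.mk _ (MvPolynomial.X i)) = s from MvPolynomial.eval₂Hom_X' _ _ i]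
    exact (add_sub_cancel _ _).symm
  have h0 : Ev (φ.hom (Ideal.Quotient.mk _ (MvPolynomial.X 0))) *
      Ev (φ.hom (Ideal.Quotient.mk _ (MvPolynomial.X 1))) = 0 := by
    have hz : Ideal.Quotient.mk (nodeI (Art.dual k k) (0 : DualNumber k)) (MvPolynomial.X 0 * MvPolynomial.X 1) = 0 := by
      rw [Ideal.Quotient.eq_zero_iff_mem]
      exact Ideal.mem_span_singleton'.mpr ⟨1,
        (one_mul _).trans ((congrArg (_ - ·) (map_zero MvPolynomial.C)).trans (sub_zero _))⟩
    rw [← map_mul, ← map_mul, ← map_mul]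
    exact (congrArg (fun z => Ev (φ.hom z)) hz).trans ((congrArg Ev (map_zero φ.hom)).trans (map_zero Ev))
  obtain ⟨a, ha⟩ := key 0
  obtain ⟨b, hb⟩ := key 1
  rw [ha, hb] at h0
  have hss : s * s = 0 := by
    rw [← h0]
    linear_combination (-(a + b) - a * b * s) * hs3
  have hdvd : (Polynomial.X ^ 3 : Polynomial k) ∣ Polynomial.X ^ 2 := by
    rw [← AdjoinRoot.mk_eq_zero, map_pow, AdjoinRoot.mk_X, pow_two]
    exact hss
  have := Polynomial.natDegree_le_of_dvd hdvd (pow_ne_zero _ Polynomial.X_ne_zero)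
  simp at this

theorem not_isProrepresentable :
    ¬ IsProrepresentable (defFunctor (Λ := k) (X₀ k) (x₀ k)) := by
  rintro ⟨P⟩
  let F := defFunctor (Λ := k) (X₀ k) (x₀ k)
  have hl := ArtHull.isLeftExact_of_proRep P
  have hk : Function.Surjective (algebraMap k k) := fun a => ⟨a, rfl⟩
  let T := AdjoinRoot (Polynomial.X ^ 3 : Polynomial k)
  let s : T := AdjoinRoot.root _
  have hs3 : s ^ 3 = 0 := by
    have := AdjoinRoot.eval₂_root (Polynomial.X ^ 3 : Polynomial k)
    simpa using this
  have : Module.Finite k T := (Polynomial.monic_X_pow 3).finite_adjoinRoot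
  let res : T →ₐ[k] k := AdjoinRoot.liftAlgHom _ (Algebra.ofId k k) 0 (by simp)
  have hdec : ∀ p : T, res p = 0 → ∃ q, p = s * q := fun p hp => by
    obtain ⟨p, rfl⟩ := AdjoinRoot.mk_surjective p
    refine ⟨AdjoinRoot.mk _ p.divX, ?_⟩
    have h0 : p.coeff 0 = 0 := by
      have h := (AdjoinRoot.liftAlgHom_mk _ _ _ _ p).symm.trans hp
      rwa [Polynomial.eval₂_at_zero] at h
    conv_lhs => rw [← Polynomial.X_mul_divX_add p, h0, map_zero, add_zero, map_mul, AdjoinRoot.mk_X]
  obtain ⟨A', i, hi⟩ := ArtHull.exists_art_of_finite hk T res fun p hp => by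
    obtain ⟨q, rfl⟩ := hdec p hp
    exact ⟨3, by rw [mul_pow, hs3, zero_mul]⟩
  let t : A' := i s
  have ht : A'.res t = 0 := by
    exact (AlgHom.congr_fun hi s).trans (AdjoinRoot.liftAlgHom_root _ _ _ _)
  have ht3 : t ^ 3 = 0 := by rw [← map_pow, hs3, map_zero]
  have hdec' : ∀ a : A', A'.res a = 0 → ∃ q, a = t * q := fun a ha => by
    obtain ⟨q, hq⟩ := hdec (i.symm a) (by
      rw [← hi]
      change A'.res (i (i.symm a)) = 0
      rw [i.apply_symm_apply]
      exact ha)
    exact ⟨i q, by rw [← map_mul, ← hq, i.apply_symm_apply]⟩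
  have ht2 : t * t ≠ 0 := fun h => by
    have hss : s * s = 0 := i.injective (by rw [map_mul, map_zero]; exact h)
    have hdvd : (Polynomial.X ^ 3 : Polynomial k) ∣ Polynomial.X ^ 2 := by
      rw [← AdjoinRoot.mk_eq_zero, map_pow, AdjoinRoot.mk_X, pow_two]
      exact hss
    have := Polynomial.natDegree_le_of_dvd hdvd (pow_ne_zero _ Polynomial.X_ne_zero)
    simp at this
  obtain ⟨A, μ, hμs, hμk⟩ := ArtHull.exists_quot A' (Ideal.span {t * t})
    ((Ideal.span_singleton_le_iff_mem _).2 ((Art.mem_maximalIdeal_iff _ _).2 (by rw [map_mul, ht, mul_zero])))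
  have hμ : Art.IsSmallExt μ := by
    refine ⟨hμs, by rw [hμk]; exact mt Ideal.span_singleton_eq_bot.mp ht2, ⟨⟨t * t, hμk⟩⟩, ?_⟩
    rw [hμk, ← le_bot_iff, Ideal.mul_le]
    intro a ha b hb
    obtain ⟨r, rfl⟩ := Ideal.mem_span_singleton'.mp hb
    obtain ⟨q, rfl⟩ := hdec' a ((Art.mem_maximalIdeal_iff _ a).1 ha)
    rw [Ideal.mem_bot]
    linear_combination (q * r) * ht3
  obtain ⟨E, p, p', Θ, hE, hΘ, hΘ0⟩ := ArtHull.exists_dual_square hk μ hμ
  obtain ⟨e₁, he₁, he₁'⟩ := hE.surj t (0 : DualNumber k) ht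
  obtain ⟨e₂, he₂, he₂'⟩ := hE.surj t (DualNumber.eps : DualNumber k) ht
  have hr : ∀ e, p e = t → E.res e = 0 := fun e he => by rw [← Art.res_app p, he, ht]
  have hΘ1 : Θ e₁ = t := (hΘ0 e₁ (by rw [he₁']; rfl)).trans he₁
  obtain ⟨w, hw, hΘ2⟩ : ∃ w, A'.res w = 1 ∧ Θ e₂ = w * t := by
    have h := hΘ.w_apply e₂
    rw [he₂] at h
    have hmem : Θ e₂ - t ∈ RingHom.ker μ.toAlgHom := by
      rw [RingHom.mem_ker, map_sub, sub_eq_zero]
      exact h.symm
    rw [hμk] at hmem
    obtain ⟨r, hr⟩ := Ideal.mem_span_singleton'.mp hmem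
    refine ⟨1 + r * t, by rw [map_add, map_mul, map_one, ht, mul_zero, add_zero], ?_⟩
    linear_combination -hr
  have hz : cls e₁ (hr _ he₁) = cls e₂ (hr _ he₂) := by
    refine (hl p Θ μ μ hΘ).1 (FibProd.ext ?_ ?_)
    · change F.map p _ = F.map p _
      rw [map_cls, map_cls]
      exact cls_congr (he₁.trans he₂.symm) _ _
    · change F.map Θ _ = F.map Θ _
      rw [map_cls, map_cls]
      refine (cls_congr hΘ1 _ ht).trans ?_
      exact ((cls_congr hΘ2 _ (by rw [map_mul, ht, mul_zero])).trans (cls_mul t w hw ht)).symm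
  have h := congrArg (F.map p') hz
  rw [map_cls, map_cls] at h
  exact cls_eps_ne (((cls_congr he₁' _ _).symm.trans (h.trans (cls_congr he₂' _ _))).symm)

end Groth.Agent.DefNode
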